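import Groth.Agent.FlatSecLib.Extend
import Groth.Agent.QCohLib.Push
import Groth.Agent.KFlat.Module
import Groth.Agent.FlatCoverLib.Basic
import Groth.Agent.ZClosLib.Basic

/-!
# Flat quasi-coherent modules and opens of depth at least two
-/

set_option autoImplicit false
set_option linter.style.haveILetI false
set_option backward.isDefEq.respectTransparency false

universe u

open CategoryTheory AlgebraicGeometry Opposite Groth.Agent.CohBase

namespace Groth.Agent.FlatModSec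

section Algebra

variable {A M : Type u} [CommRing A] [AddCommGroup M] [Module A M] [Module.Flat A M]

theorem regular {x : A} (hx : x ∈ nonZeroDivisors A) {m : M} (h : x • m = 0) : m = 0 := by
  let : Module Aᵐᵒᵖ M := Module.compHom M ((RingHom.id A).fromOpposite fun a b => mul_comm a b)
  have : IsCentralScalar A M := ⟨fun a n => rfl⟩
  have : Module.Flat A (A × M) := KFlat.flat_prod (R := A) A M
  have : Module.Flat A (TrivSqZeroExt A M) :=
    Module.Flat.of_linearEquiv (LinearEquiv.refl A (A × M) : TrivSqZeroExt A M ≃ₗ[A] A × M)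
  have h0 : algebraMap A (TrivSqZeroExt A M) x * TrivSqZeroExt.inr m = 0 := by
    rw [TrivSqZeroExt.algebraMap_eq_inl, TrivSqZeroExt.inl_mul_inr, h, TrivSqZeroExt.inr_zero]
  exact TrivSqZeroExt.inr_injective ((FlatSecLib.regular_of_flat hx h0).trans (TrivSqZeroExt.inr_zero A).symm)

theorem exists_eq_pow_smul {x y : A} (hx : x ∈ nonZeroDivisors A)
    (hy : ∀ z, y * z ∈ Ideal.span {x} → z ∈ Ideal.span {x}) (N L : ℕ) (m₁ m₂ : M)
    (h : y ^ L • m₁ = x ^ N • m₂) : ∃ m, m₁ = x ^ N • m := by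
  let : Module Aᵐᵒᵖ M := Module.compHom M ((RingHom.id A).fromOpposite fun a b => mul_comm a b)
  have : IsCentralScalar A M := ⟨fun a n => rfl⟩
  have : Module.Flat A (A × M) := KFlat.flat_prod (R := A) A M
  have : Module.Flat A (TrivSqZeroExt A M) :=
    Module.Flat.of_linearEquiv (LinearEquiv.refl A (A × M) : TrivSqZeroExt A M ≃ₗ[A] A × M)
  have h0 : algebraMap A (TrivSqZeroExt A M) y ^ L * TrivSqZeroExt.inr m₁ =
      algebraMap A (TrivSqZeroExt A M) x ^ N * TrivSqZeroExt.inr m₂ := by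
    rw [← map_pow, ← map_pow, TrivSqZeroExt.algebraMap_eq_inl,
      TrivSqZeroExt.inl_mul_inr, TrivSqZeroExt.inl_mul_inr, h]
  obtain ⟨b, hb⟩ := FlatSecLib.exists_eq_pow_mul hx hy N L _ _ h0
  refine ⟨b.snd, ?_⟩
  have h1 := congrArg TrivSqZeroExt.snd hb
  rw [← map_pow, TrivSqZeroExt.algebraMap_eq_inl, TrivSqZeroExt.snd_mul, TrivSqZeroExt.snd_inr] at h1
  simpa using h1

end Algebra

variable {S : Scheme.{u}} [IsLocallyNoetherian S] (U : S.Opens)
  (hU : ∀ s : S, s ∉ U → (2 : ℕ∞) ≤ LocCoh.depth (S.presheaf.stalk s) (S.presheaf.stalk s))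
  (M : S.Modules) [Coh.IsQCoh M] (hM : FlatMod.IsFlat M)

include hU hM in
theorem bijective_restrict {V : S.Opens} (hV : IsAffineOpen V) :
    Function.Bijective (M.presheaf.map (homOfLE (inf_le_left : V ⊓ U ≤ V)).op) := by
  haveI := FlatCoverLib.flat_sections_on M hV fun x _ => hM x
  obtain ⟨x, hxJ, y, hyJ, hxn, hyn, hxy⟩ := FlatSecLib.exists_pair U hU hV
  have hle : ∀ a ∈ FlatSecLib.opensIdeal U V, S.basicOpen a ≤ V ⊓ U := fun a ha => le_inf (S.basicOpen_le a) ha
  let ρ {W W' : S.Opens} (h : W ≤ W') : Γ(M, W') →+ Γ(M, W) := (M.presheaf.map (homOfLE h).op).hom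
  have hρρ : ∀ {W₂ W₁ W : S.Opens} (h₂ : W₂ ≤ W₁) (h₁ : W₁ ≤ W) (e : Γ(M, W)),
      ρ h₂ (ρ h₁ e) = ρ (h₂.trans h₁) e := fun h₂ h₁ e => by
    show (M.presheaf.map _ ≫ M.presheaf.map _) e = M.presheaf.map _ e
    rw [← Functor.map_comp]; rfl
  have hρsc : ∀ {W₁ W : S.Opens} (h₁ : W₁ ≤ W) (h : W ≤ V) (r : Γ(S, V)) (e : Γ(M, W)),
      ρ h₁ (sc r h e) = sc r (h₁.trans h) (ρ h₁ e) := fun h₁ h r e => map_sc r h h₁ e
  have hsm : ∀ (r : Γ(S, V)) (e : Γ(M, V)), sc r le_rfl e = r • e := fun r e => by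
    rw [sc_apply]
    exact congrArg (· • e) (ConcreteCategory.congr_hom (S.presheaf.map_id (op V)) r)
  have kill : ∀ (r : Γ(S, V)) (e : Γ(M, V)), ρ (S.basicOpen_le r) e = 0 → ∃ n : ℕ, r ^ n • e = 0 := by
    intro r e he
    obtain ⟨n, hn⟩ := QCohLib.exists_pow_zero_of_isCompact M hV.isCompact r e he
    exact ⟨n, (hsm _ _).symm.trans hn⟩
  have unit : ∀ (r : Γ(S, V)) (W : S.Opens) (h : W ≤ S.basicOpen r) (n : ℕ) (e : Γ(M, W)),
      sc (r ^ n) (h.trans (S.basicOpen_le r)) e = 0 → e = 0 := by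
    intro r W h n e he
    rw [sc_apply, map_pow] at he
    have hu : IsUnit (S.presheaf.map (homOfLE (h.trans (S.basicOpen_le r))).op r) := by
      have e : S.presheaf.map (homOfLE (h.trans (S.basicOpen_le r))).op =
          S.presheaf.map (homOfLE (S.basicOpen_le r)).op ≫ S.presheaf.map (homOfLE h).op := by
        rw [← Functor.map_comp]; rfl
      rw [e]
      exact (RingedSpace.isUnit_res_basicOpen S.toRingedSpace r).map (S.presheaf.map (homOfLE h).op).hom
    exact (hu.pow n).smul_eq_zero.1 he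
  refine ⟨(injective_iff_map_eq_zero _).2 fun e he => ?_, fun c => ?_⟩
  · obtain ⟨n, hn⟩ := kill x e (by
      rw [← hρρ (hle x hxJ) inf_le_left e]
      exact (congrArg _ he).trans (map_zero _))
    exact regular (pow_mem hxn n) hn
  · obtain ⟨k₁, m₁, hm₁⟩ := QCohLib.exists_pow_extend_of_isQuasiSeparated M hV.isCompact hV.isQuasiSeparated x
      (ρ (hle x hxJ) c)
    obtain ⟨k₂, m₂, hm₂⟩ := QCohLib.exists_pow_extend_of_isQuasiSeparated M hV.isCompact hV.isQuasiSeparated y
      (ρ (hle y hyJ) c)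
    have hx' : S.basicOpen (x * y) ≤ S.basicOpen x := by rw [Scheme.basicOpen_mul]; exact inf_le_left
    have hy' : S.basicOpen (x * y) ≤ S.basicOpen y := by rw [Scheme.basicOpen_mul]; exact inf_le_right
    obtain ⟨l, hl⟩ := kill (x * y) (y ^ k₂ • m₁ - x ^ k₁ • m₂) (by
      have e1 := congrArg (ρ hx') hm₁
      have e2 := congrArg (ρ hy') hm₂
      change ρ hx' (ρ _ m₁) = _ at e1
      change ρ hy' (ρ _ m₂) = _ at e2
      rw [hρρ, hρsc, hρρ] at e1
      rw [hρρ, hρsc, hρρ] at e2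
      rw [map_sub, ← hsm, ← hsm, hρsc, hρsc, e1, e2, ← sc_mul, ← sc_mul, sub_eq_zero]
      exact congrArg (fun r => sc r _ _) (mul_comm _ _))
    have hzero : y ^ k₂ • m₁ = x ^ k₁ • m₂ := by
      refine sub_eq_zero.1 (regular (x := x ^ l) (pow_mem hxn l) ?_)
      rw [mul_pow, mul_smul] at hl
      refine regular (x := y ^ l) (pow_mem hyn l) ?_
      rw [smul_comm]
      exact hl
    obtain ⟨m, hm⟩ := exists_eq_pow_smul hxn hxy k₁ k₂ m₁ m₂ hzero
    refine ⟨m, ?_⟩
    have hx0 : ρ (hle x hxJ) (ρ inf_le_left m - c) = 0 := by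
      refine unit x _ le_rfl k₁ _ ?_
      rw [map_sub, map_sub, hρρ, ← hρsc _ le_rfl, hsm, ← hm, sub_eq_zero]
      exact hm₁
    show ρ inf_le_left m = c
    refine sub_eq_zero.1 ?_
    let e := ρ inf_le_left m - c
    refine QCohLib.eq_of_cover M (W := fun a : FlatSecLib.opensIdeal U V => S.basicOpen (a : Γ(S, V)))
      (fun a => hle a a.2) (fun z hz => ?_) e 0 fun a => ?_
    · obtain ⟨a, hale, hza⟩ := hV.exists_basicOpen_le ⟨z, hz.2⟩ hz.1
      exact TopologicalSpace.Opens.mem_iSup.2 ⟨⟨a, fun w hw => hale hw⟩, hza⟩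
    · show ρ (hle a a.2) e = ρ (hle a a.2) 0
      rw [map_zero]
      obtain ⟨j, b, hb⟩ := QCohLib.exists_pow_extend_of_isQuasiSeparated M hV.isCompact hV.isQuasiSeparated
        (a : Γ(S, V)) (ρ (hle a a.2) e)
      have hax : S.basicOpen ((a : Γ(S, V)) * x) ≤ S.basicOpen (a : Γ(S, V)) := by
        rw [Scheme.basicOpen_mul]; exact inf_le_left
      have hxa : S.basicOpen ((a : Γ(S, V)) * x) ≤ S.basicOpen x := by
        rw [Scheme.basicOpen_mul]; exact inf_le_right
      obtain ⟨n, hn⟩ := kill ((a : Γ(S, V)) * x) b (by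
        have e1 := congrArg (ρ hax) hb
        change ρ hax (ρ _ b) = _ at e1
        rw [hρρ, hρsc, hρρ] at e1
        refine e1.trans ?_
        rw [← hρρ hxa (hle x hxJ), hx0, map_zero, map_zero])
      have ha0 : (a : Γ(S, V)) ^ n • b = 0 := by
        refine regular (x := x ^ n) (pow_mem hxn n) ?_
        rw [← mul_smul, mul_comm, ← mul_pow]
        exact hn
      refine unit a _ le_rfl (n + j) _ ?_
      rw [pow_add, sc_mul]
      change sc _ _ _ = 0
      rw [← hb]
      show sc _ _ (ρ _ b) = 0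
      rw [← hρsc _ le_rfl, hsm, ha0, map_zero]

include hU hM in
theorem isIso_unit : IsIso ((Scheme.Modules.restrictAdjunction U.ι).unit.app M) := by
  refine ZClosLib.isIso_of_bijective_affine _ fun V hV => ?_
  rw [Scheme.Modules.restrictAdjunction_unit_app_app]
  have hfac : ∀ (V' : S.Opens) (h : V' ≤ V), V' = V ⊓ U → Function.Bijective (M.presheaf.map (homOfLE h).op) := by
    rintro V' h rfl
    exact bijective_restrict U hU M hM hV
  exact hfac (U.ι ''ᵁ (U.ι ⁻¹ᵁ V)) (U.ι.image_preimage_le V)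
    (by rw [Scheme.Hom.image_preimage_eq_opensRange_inf, Scheme.Opens.opensRange_ι, inf_comm])

end Groth.Agent.FlatModSec
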